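import Mathlib
import Groth.Agent.S19568

/-!
Elements vanishing in a Henselization vanish near the closed subset.
-/

set_option autoImplicit false
universe u

open TensorProduct

namespace H1HensSheaf

/-- If `δ` dies in a flat algebra which has a prime over `w`, then it is killed outside `w`. -/
theorem exists_mul_eq_zero_of_flat (D D' : Type u) [CommRing D] [CommRing D'] [Algebra D D']
    [Module.Flat D D'] (δ : D) (hδ : algebraMap D D' δ = 0) (w : Ideal D) (P : Ideal D')
    (hP : P ≠ ⊤) (hPw : w ≤ P.comap (algebraMap D D')) : ∃ c ∉ w, c * δ = 0 := by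
  set J : Ideal D := LinearMap.ker (LinearMap.toSpanSingleton D D δ) with hJ
  by_contra hcon
  push Not at hcon
  have hJw : J ≤ w := fun c hc => by
    by_contra h
    exact hcon c h (by simpa [hJ, LinearMap.toSpanSingleton_apply] using hc)
  let f : (D ⧸ J) →ₗ[D] D := J.liftQ (LinearMap.toSpanSingleton D D δ) le_rfl
  have hf : Function.Injective f := LinearMap.ker_eq_bot.mp (Submodule.ker_liftQ_eq_bot _ _ _ le_rfl)
  have hinj := Module.Flat.lTensor_preserves_injective_linearMap (M := D') f hf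
  have h0 : f.lTensor D' ((1 : D') ⊗ₜ Ideal.Quotient.mk J 1) = 0 := by
    rw [LinearMap.lTensor_tmul]
    have : f (Ideal.Quotient.mk J 1) = δ • (1 : D) := by
      show LinearMap.toSpanSingleton D D δ 1 = _
      simp [LinearMap.toSpanSingleton_apply]
    rw [this, ← smul_tmul, Algebra.smul_def, hδ, zero_mul, zero_tmul]
  have h1 : (1 : D') ⊗ₜ[D] Ideal.Quotient.mk J 1 = 0 := hinj (by rw [h0, map_zero])
  have h2 : (1 : D') ∈ J.map (algebraMap D D') := by
    have h3 := congrArg (TensorProduct.tensorQuotEquivQuotSMul D' J) h1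
    rw [map_zero, TensorProduct.tensorQuotEquivQuotSMul_tmul_mk,
      one_smul, Submodule.Quotient.mk_eq_zero] at h3
    rwa [Ideal.smul_top_eq_map, Submodule.restrictScalars_mem] at h3
  exact hP ((Ideal.eq_top_iff_one P).mpr ((Ideal.map_le_iff_le_comap.mpr (hJw.trans hPw)) h2))

variable (A' : Type u) [CommRing A'] (I : Ideal A') (C : Type u) [CommRing C] [Algebra A' C]

theorem bijective_quotientMap (ρ : C →ₐ[A'] A' ⧸ I)
    (hsurj : ∀ x : C, ∃ a, x - algebraMap A' C a ∈ I.map (algebraMap A' C)) :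
    Function.Bijective (Ideal.quotientMap (I.map (algebraMap A' C)) (algebraMap A' C)
      Ideal.le_comap_map) := by
  constructor
  · rw [injective_iff_map_eq_zero]
    intro a ha
    obtain ⟨a, rfl⟩ := Ideal.Quotient.mk_surjective a
    rw [Ideal.quotientMap_mk, Ideal.Quotient.eq_zero_iff_mem] at ha
    have hker : I.map (algebraMap A' C) ≤ RingHom.ker ρ.toRingHom := by
      rw [Ideal.map_le_iff_le_comap]
      intro b hb
      show ρ (algebraMap A' C b) = 0
      rw [ρ.commutes]
      exact Ideal.Quotient.eq_zero_iff_mem.mpr hb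
    have h := hker ha
    rw [RingHom.mem_ker] at h
    simpa [AlgHom.commutes] using h
  · intro y
    obtain ⟨x, rfl⟩ := Ideal.Quotient.mk_surjective y
    obtain ⟨a, ha⟩ := hsurj x
    refine ⟨Ideal.Quotient.mk I a, ?_⟩
    rw [Ideal.quotientMap_mk, eq_comm, Ideal.Quotient.eq]
    exact ha

variable (B : Type u) [CommRing B] [Algebra A' B]

/-- An element of an etale neighbourhood vanishing in the Henselization is killed, in any algebra,
outside any given prime over the ideal. -/
theorem exists_notMem_mul_eq_zero [Algebra.Etale A' C]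
    (hq : Function.Bijective (Ideal.quotientMap (I.map (algebraMap A' C)) (algebraMap A' C)
      Ideal.le_comap_map))
    (hB : Hens2.IsPairHenselization A' I B) (φ : C →ₐ[A'] B) (δ : C) (hδ : φ δ = 0)
    (D : Type u) [CommRing D] (e : C →+* D) (w : Ideal D) [w.IsPrime]
    (hw : I.map (e.comp (algebraMap A' C)) ≤ w) : ∃ c ∉ w, c * e δ = 0 := by
  obtain ⟨C'', _, _, _, hq'', ψ, hψ⟩ := (Groth.Agent.S19568.result A' I B hB).2.2 C hq φ δ hδ
  letI : Algebra C D := e.toAlgebra
  letI : Algebra C C'' := ψ.toRingHom.toAlgebra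
  haveI : IsScalarTower A' C C'' := IsScalarTower.of_algebraMap_eq fun a => (ψ.commutes a).symm
  haveI : Algebra.Etale C C'' := Algebra.Etale.of_restrictScalars A' C C''
  -- the map back to the closed fibre
  let qC := Ideal.quotientMap (I.map (algebraMap A' C)) (algebraMap A' C) Ideal.le_comap_map
  let q'' := RingEquiv.ofBijective _ hq''
  have hback : ∀ a, q''.symm (Ideal.Quotient.mk _ (algebraMap A' C'' a)) = Ideal.Quotient.mk I a := by
    intro a
    rw [RingEquiv.symm_apply_eq]
    rfl
  let χ : C'' →+* C ⧸ I.map (algebraMap A' C) :=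
    qC.comp (q''.symm.toRingHom.comp (Ideal.Quotient.mk _))
  have hχ : ∀ x, χ (ψ x) = Ideal.Quotient.mk _ x := by
    intro x
    obtain ⟨y, hy⟩ := hq.2 (Ideal.Quotient.mk _ x)
    obtain ⟨a, rfl⟩ := Ideal.Quotient.mk_surjective y
    rw [Ideal.quotientMap_mk, Ideal.Quotient.eq] at hy
    have h1 : Ideal.Quotient.mk (I.map (algebraMap A' C'')) (ψ x) =
        Ideal.Quotient.mk _ (algebraMap A' C'' a) := by
      rw [eq_comm, Ideal.Quotient.eq, ← ψ.commutes, ← map_sub]
      have : I.map (algebraMap A' C'') = (I.map (algebraMap A' C)).map ψ.toRingHom := by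
        rw [Ideal.map_map]
        exact congrArg (fun f => I.map f) (RingHom.ext fun a => (ψ.commutes a).symm)
      rw [this]
      exact Ideal.mem_map_of_mem _ hy
    show qC (q''.symm (Ideal.Quotient.mk _ (ψ x))) = _
    rw [h1, hback, Ideal.quotientMap_mk, Ideal.Quotient.eq]
    exact hy
  -- the point over `w`
  have hwC : I.map (algebraMap A' C) ≤ RingHom.ker ((Ideal.Quotient.mk w).comp e) := by
    rw [Ideal.map_le_iff_le_comap]
    intro a ha
    simp only [Ideal.mem_comap, RingHom.mem_ker, RingHom.comp_apply, Ideal.Quotient.eq_zero_iff_mem]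
    exact hw (Ideal.mem_map_of_mem _ ha)
  let μ : C'' →+* D ⧸ w :=
    (Ideal.Quotient.lift _ ((Ideal.Quotient.mk w).comp e) fun x hx => hwC hx).comp χ
  have hμ : ∀ x, μ (ψ x) = Ideal.Quotient.mk w (e x) := fun x => by
    simp only [μ, RingHom.comp_apply, hχ, Ideal.Quotient.lift_mk]
  let f₁ : D →ₐ[C] D ⧸ w := Ideal.Quotient.mkₐ C w
  let f₂ : C'' →ₐ[C] D ⧸ w := { μ with commutes' := hμ }
  let κ : D ⊗[C] C'' →ₐ[C] D ⧸ w := Algebra.TensorProduct.lift f₁ f₂ fun _ _ => Commute.all _ _
  haveI : Module.Flat D (D ⊗[C] C'') := inferInstance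
  refine exists_mul_eq_zero_of_flat D (D ⊗[C] C'') (e δ) ?_ w (RingHom.ker κ.toRingHom)
    (RingHom.ker_ne_top _) ?_
  · have : (e δ) ⊗ₜ[C] (1 : C'') = (1 : D) ⊗ₜ[C] (ψ δ) := by
      rw [show e δ = δ • (1 : D) from (by rw [Algebra.smul_def, mul_one]; rfl), smul_tmul,
        Algebra.smul_def, mul_one]
      rfl
    rw [Algebra.TensorProduct.algebraMap_apply, Algebra.algebraMap_self, RingHom.id_apply, this,
      hψ, tmul_zero]
  · intro d hd
    show κ (d ⊗ₜ[C] (1 : C'')) = 0
    rw [Algebra.TensorProduct.lift_tmul, map_one, mul_one]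
    exact Ideal.Quotient.eq_zero_iff_mem.mpr hd

/-- The version over a localization away from `g`. -/
theorem exists_notMem_mul_eq_zero_away (A : Type u) [CommRing A] (I : Ideal A) (g : A)
    (A' : Type u) [CommRing A'] [Algebra A A'] [IsLocalization.Away g A']
    (B : Type u) [CommRing B] [Algebra A' B] [Algebra A B] [IsScalarTower A A' B]
    (hB : Hens2.IsPairHenselization A' (I.map (algebraMap A A')) B)
    (C : Type u) [CommRing C] [Algebra A C] [Algebra.Etale A C]
    (ρ : C →ₐ[A] A' ⧸ I.map (algebraMap A A'))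
    (hsurj : ∀ x : C, ∃ a : A', (1 : A') ⊗ₜ[A] x - a ⊗ₜ[A] (1 : C) ∈
      I.map (algebraMap A (A' ⊗[A] C)))
    (φ : C →ₐ[A] B) (δ : C) (hδ : φ δ = 0)
    (D : Type u) [CommRing D] (e : C →+* D) (w : Ideal D) [w.IsPrime]
    (hg : e (algebraMap A C g) ∉ w) (hw : I.map (e.comp (algebraMap A C)) ≤ w) :
    ∃ c ∉ w, c * e δ = 0 := by
  set d := e (algebraMap A C g)
  letI : Algebra A D := (e.comp (algebraMap A C)).toAlgebra
  let e' : C →ₐ[A] D := { e with commutes' := fun _ => rfl }
  have hu : IsUnit (algebraMap A (Localization.Away d) g) :=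
    IsLocalization.Away.algebraMap_isUnit (S := Localization.Away d) d
  let l : A' →ₐ[A] Localization.Away d :=
    IsLocalization.Away.liftAlgHom g (f := Algebra.ofId A _) hu
  let E : A' ⊗[A] C →ₐ[A] Localization.Away d :=
    Algebra.TensorProduct.lift l ((IsScalarTower.toAlgHom A D _).comp e') fun _ _ => Commute.all _ _
  have hdisj : Disjoint (Submonoid.powers d : Set D) (w : Set D) := by
    rw [Set.disjoint_left]
    rintro _ ⟨n, rfl⟩ h
    exact hg (Ideal.IsPrime.mem_of_pow_mem inferInstance n h)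
  set w' := w.map (algebraMap D (Localization.Away d))
  haveI : w'.IsPrime := IsLocalization.isPrime_of_isPrime_disjoint (Submonoid.powers d) _ w inferInstance hdisj
  have hsurj' : ∀ x : A' ⊗[A] C, ∃ a, x - algebraMap A' (A' ⊗[A] C) a ∈
      (I.map (algebraMap A A')).map (algebraMap A' (A' ⊗[A] C)) := by
    rw [Ideal.map_map, ← IsScalarTower.algebraMap_eq]
    intro x
    induction x using TensorProduct.induction_on with
    | zero => exact ⟨0, by simp⟩
    | tmul b x =>
      obtain ⟨a, ha⟩ := hsurj x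
      refine ⟨b * a, ?_⟩
      have := Ideal.mul_mem_left _ (b ⊗ₜ[A] (1 : C)) ha
      rw [mul_sub, Algebra.TensorProduct.tmul_mul_tmul, Algebra.TensorProduct.tmul_mul_tmul,
        mul_one, one_mul, mul_one] at this
      simpa [Algebra.TensorProduct.algebraMap_apply] using this
    | add x y hx hy =>
      obtain ⟨a, ha⟩ := hx
      obtain ⟨b, hb⟩ := hy
      exact ⟨a + b, by rw [map_add, add_sub_add_comm]; exact add_mem ha hb⟩
  let ρ' : A' ⊗[A] C →ₐ[A'] A' ⧸ I.map (algebraMap A A') :=
    Algebra.TensorProduct.lift (Algebra.ofId A' _) ρ fun _ _ => Commute.all _ _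
  let φ' : A' ⊗[A] C →ₐ[A'] B :=
    Algebra.TensorProduct.lift (Algebra.ofId A' B) φ fun _ _ => Commute.all _ _
  obtain ⟨c, hc, hcδ⟩ := exists_notMem_mul_eq_zero A' (I.map (algebraMap A A')) (A' ⊗[A] C) B
    (bijective_quotientMap A' _ _ ρ' hsurj') hB φ' ((1 : A') ⊗ₜ δ)
    (by simp [φ', hδ]) (Localization.Away d) E.toRingHom w' (by
      rw [Ideal.map_map, RingHom.comp_assoc, ← IsScalarTower.algebraMap_eq]
      have h0 : E.toRingHom.comp (algebraMap A (A' ⊗[A] C)) =
          (algebraMap D (Localization.Away d)).comp (e.comp (algebraMap A C)) := by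
        ext a
        show E (algebraMap A _ a) = _
        rw [E.commutes]
        rfl
      rw [h0, ← Ideal.map_map]
      exact Ideal.map_mono hw)
  obtain ⟨⟨c₀, s⟩, hc₀⟩ := IsLocalization.surj (Submonoid.powers d) c
  have hc₀w : c₀ ∉ w := fun h => by
    refine hc ((Ideal.IsPrime.mem_or_mem (inferInstance : w'.IsPrime)
      (hc₀ ▸ Ideal.mem_map_of_mem (algebraMap D (Localization.Away d)) h)).resolve_right fun h' => ?_)
    exact (inferInstance : w'.IsPrime).ne_top
      (Ideal.eq_top_of_isUnit_mem _ h' (IsLocalization.map_units _ s))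
  have h0 : algebraMap D (Localization.Away d) (c₀ * e δ) = 0 := by
    have hE : E ((1 : A') ⊗ₜ[A] δ) = algebraMap D _ (e δ) := by
      simp [E, e']
    rw [map_mul, ← hc₀, mul_right_comm, ← hE]
    show c * E.toRingHom ((1 : A') ⊗ₜ[A] δ) * _ = 0
    rw [hcδ, zero_mul]
  obtain ⟨⟨_, n, rfl⟩, hn⟩ := (IsLocalization.map_eq_zero_iff (Submonoid.powers d) _ _).mp h0
  refine ⟨d ^ n * c₀, fun h => ?_, by rw [mul_assoc]; exact hn⟩
  rcases Ideal.IsPrime.mem_or_mem inferInstance h with h | h
  · exact hg (Ideal.IsPrime.mem_of_pow_mem inferInstance n h)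
  · exact hc₀w h

end H1HensSheaf
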