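import Mathlib
import Groth.Agent.EtH0Lib.H0Sets
import Groth.Agent.EtH0Lib.AbBridge
import Groth.Prelude.Def_EtGm
import Groth.Agent.H1HensSheaf.Alg

/-!
The additive group on affine etale schemes: local equality of sections.
-/

set_option autoImplicit false
set_option linter.style.haveILetI false
universe u

open CategoryTheory CategoryTheory.Limits AlgebraicGeometry Opposite
open Groth.Agent.BigSiteLib.DescSec Groth.Agent.EtH0Lib

namespace H1HensSheaf

set_option backward.isDefEq.respectTransparency.types false

theorem etale_specMap (H C : Type u) [CommRing H] [CommRing C] [Algebra H C] [Algebra.Etale H C] :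
    Etale (Spec.map (CommRingCat.ofHom (algebraMap H C))) :=
  (HasRingHomProperty.Spec_iff (P := @Etale)).mpr (RingHom.etale_algebraMap.mpr inferInstance)

/-- An affine etale scheme. -/
noncomputable def etObj (H C : Type u) [CommRing H] [CommRing C] [Algebra H C] [Algebra.Etale H C] :
    (Spec (CommRingCat.of H)).Etale :=
  haveI := etale_specMap H C
  Scheme.Etale.mk (Spec.map (CommRingCat.ofHom (algebraMap H C)))

/-- The sheaf of sets underlying the additive group. -/
noncomputable abbrev GaSet (X : Scheme.{u}) : EtDesc.Sh X := uSet (EtCoh.Ga X)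

/-- An element as a section. -/
noncomputable def sec (H : Type u) [CommRing H] {C : Type u} [CommRing C] [Algebra H C] [Algebra.Etale H C] (c : C) :
    (GaSet (Spec (CommRingCat.of H))).obj.obj (op (etObj H C)) :=
  ULift.up ((Scheme.ΓSpecIso (CommRingCat.of C)).inv c)

/-- The morphism of affine etale schemes of an algebra map. -/
noncomputable def etMap (H : Type u) [CommRing H] {C C' : Type u} [CommRing C] [Algebra H C] [Algebra.Etale H C]
    [CommRing C'] [Algebra H C'] [Algebra.Etale H C'] (χ : C →ₐ[H] C') : etObj H C' ⟶ etObj H C :=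
  MorphismProperty.Over.homMk (Spec.map (CommRingCat.ofHom χ.toRingHom)) (by
    show Spec.map _ ≫ Spec.map _ = Spec.map _
    rw [← Spec.map_comp, ← CommRingCat.ofHom_comp]
    congr 2
    exact χ.comp_algebraMap)

theorem map_sec (H : Type u) [CommRing H] {C C' : Type u} [CommRing C] [Algebra H C] [Algebra.Etale H C]
    [CommRing C'] [Algebra H C'] [Algebra.Etale H C'] (χ : C →ₐ[H] C') (c : C) :
    (GaSet (Spec (CommRingCat.of H))).obj.map (etMap H χ).op (sec H c) = sec H (χ c) :=
  congrArg ULift.up (ConcreteCategory.congr_hom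
    (Scheme.ΓSpecIso_inv_naturality (CommRingCat.ofHom χ.toRingHom)) c).symm

/-- A section of the global ring. -/
noncomputable def glob (H : Type u) [CommRing H] (x : H) :
    (GaSet (Spec (CommRingCat.of H))).obj.obj (op (EtCoh.top (Spec (CommRingCat.of H)))) :=
  ULift.up ((Scheme.ΓSpecIso (CommRingCat.of H)).inv x)

theorem glob_surjective (H : Type u) [CommRing H]
    (g : (GaSet (Spec (CommRingCat.of H))).obj.obj (op (EtCoh.top (Spec (CommRingCat.of H))))) :
    ∃ x, glob H x = g := by
  obtain ⟨g⟩ := g
  exact ⟨(Scheme.ΓSpecIso (CommRingCat.of H)).hom g,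
    congrArg ULift.up ((Scheme.ΓSpecIso (CommRingCat.of H)).hom_inv_id_apply g)⟩

theorem map_glob (H : Type u) [CommRing H] {C : Type u} [CommRing C] [Algebra H C] [Algebra.Etale H C] (x : H) :
    (GaSet (Spec (CommRingCat.of H))).obj.map (toTop (etObj H C)).op (glob H x) =
      sec H (algebraMap H C x) := by
  have h : (toTop (etObj H C)).left = Spec.map (CommRingCat.ofHom (algebraMap H C)) :=
    (Category.comp_id _).symm.trans (MorphismProperty.Over.w (toTop (etObj H C)))
  refine congrArg ULift.up ?_
  show (toTop (etObj H C)).left.appTop ((Scheme.ΓSpecIso (CommRingCat.of H)).inv x) = _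
  rw [h]
  exact (ConcreteCategory.congr_hom
    (Scheme.ΓSpecIso_inv_naturality (CommRingCat.ofHom (algebraMap H C))) x).symm

theorem locEq_sec (H : Type u) [CommRing H] {C : Type u} [CommRing C] [Algebra H C] [Algebra.Etale H C]
    (a b : C) (u : PrimeSpectrum C) (c : C) (hc : c ∉ u.asIdeal) (h : c * (a - b) = 0) :
    LocEq (GaSet (Spec (CommRingCat.of H))).obj (sec H a) (sec H b) (show (etObj H C).left from u) := by
  haveI : Algebra.Etale H (Localization.Away c) := inferInstance
  let χ : C →ₐ[H] Localization.Away c := IsScalarTower.toAlgHom H C _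
  refine ⟨etObj H (Localization.Away c), etMap H χ, ?_, ?_⟩
  · have hu : u ∈ Set.range (PrimeSpectrum.comap (algebraMap C (Localization.Away c))) := by
      rw [PrimeSpectrum.localization_away_comap_range (Localization.Away c) c]
      exact hc
    exact hu
  · rw [map_sec, map_sec]
    refine congrArg (sec H) ?_
    show algebraMap C (Localization.Away c) a = algebraMap C _ b
    rw [← sub_eq_zero, ← map_sub]
    refine ((IsLocalization.Away.algebraMap_isUnit c).mul_right_eq_zero).mp ?_
    rw [← map_mul, h, map_zero]

theorem exists_of_locEq (H : Type u) [CommRing H] {C : Type u} [CommRing C] [Algebra H C] [Algebra.Etale H C]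
    (a b : C) (u : PrimeSpectrum C)
    (h : LocEq (GaSet (Spec (CommRingCat.of H))).obj (sec H a) (sec H b) (show (etObj H C).left from u)) :
    ∃ c ∉ u.asIdeal, c * (a - b) = 0 := by
  obtain ⟨W, k, ⟨w, hw⟩, e⟩ := h
  haveI := Groth.Agent.EtFound.etale_left k
  obtain ⟨j, w', hw'⟩ := W.left.affineCover.exists_eq w
  let ι := W.left.affineCover.f j
  let g := ι ≫ k.left
  obtain ⟨χ, hχ⟩ : ∃ χ : CommRingCat.of C ⟶ _, Spec.map χ = g := ⟨Spec.preimage g, Spec.map_preimage _⟩
  have hflat : χ.hom.Flat := by
    haveI : Etale g := MorphismProperty.comp_mem _ ι k.left inferInstance inferInstance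
    haveI : Etale (Spec.map χ) := hχ ▸ ‹Etale g›
    haveI : Flat (Spec.map χ) := inferInstance
    exact (HasRingHomProperty.Spec_iff (P := @Flat)).mp inferInstance
  letI : Algebra C _ := χ.hom.toAlgebra
  haveI : Module.Flat C _ := hflat
  have hkill : χ.hom (a - b) = 0 := by
    have e' := congrArg (fun t => ι.appTop t.down) e
    simp only at e'
    have key : ∀ c : C, ι.appTop ((k.left.appTop) ((Scheme.ΓSpecIso (CommRingCat.of C)).inv c)) =
        (Scheme.ΓSpecIso _).inv (χ.hom c) := by
      intro c
      rw [← ConcreteCategory.comp_apply (k.left.appTop) ι.appTop, ← Scheme.Hom.comp_appTop]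
      show g.appTop _ = _
      rw [← hχ]
      exact (ConcreteCategory.congr_hom (Scheme.ΓSpecIso_inv_naturality χ) c).symm
    have e'' : (Scheme.ΓSpecIso _).inv (χ.hom a) = (Scheme.ΓSpecIso _).inv (χ.hom b) :=
      (key a).symm.trans (Eq.trans e' (key b))
    rw [map_sub, (ConcreteCategory.bijective_of_isIso (Scheme.ΓSpecIso _).inv).1 e'', sub_self]
  have hu : PrimeSpectrum.comap χ.hom w' = u := by
    show (Spec.map χ) w' = u
    rw [hχ]
    refine (Scheme.Hom.comp_apply ι k.left w').trans ?_
    exact (congrArg k.left hw').trans hw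
  exact exists_mul_eq_zero_of_flat C _ (a - b) hkill u.asIdeal (PrimeSpectrum.asIdeal w')
    (w'.isPrime.ne_top) (le_of_eq (by rw [← hu]; rfl))

end H1HensSheaf
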