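import Groth.Agent.H1HensSheaf.GaLoc

/-!
Gluing elements of etale neighbourhoods of the closed subset of a Henselian pair.
-/

set_option autoImplicit false
set_option linter.style.haveILetI false
universe u

open CategoryTheory CategoryTheory.Limits AlgebraicGeometry Opposite
open Groth.Agent.BigSiteLib.DescSec Groth.Agent.EtH0Lib
open scoped TensorProduct

namespace H1HensSheaf

set_option backward.isDefEq.respectTransparency.types false

theorem hom_apply_of_w {X : Scheme.{u}} {U V : X.Etale} (k : U ⟶ V) (y : U.left) : V.hom (k.left y) = U.hom y :=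
  (Scheme.Hom.comp_apply k.left V.hom y).symm.trans
    (congrArg (fun q : U.left ⟶ X => q y) (MorphismProperty.Over.w k))

theorem exists_glue (H : Type u) [CommRing H] (I : Ideal H) [HenselianRing H I]
    {ι : Type u} (C : ι → Type u) [∀ i, CommRing (C i)] [∀ i, Algebra H (C i)]
    [∀ i, Algebra.Etale H (C i)] (b : ∀ i, C i)
    (hcov : ∀ z : PrimeSpectrum H, I ≤ z.asIdeal →
      ∃ i, ∃ u : PrimeSpectrum (C i), PrimeSpectrum.comap (algebraMap H (C i)) u = z)
    (hcompat : ∀ i j, ∀ w : PrimeSpectrum (C i ⊗[H] C j),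
      I.map (algebraMap H (C i ⊗[H] C j)) ≤ w.asIdeal →
      ∃ c ∉ w.asIdeal, c * ((b i) ⊗ₜ[H] (1 : C j) - (1 : C i) ⊗ₜ[H] (b j)) = 0) :
    ∃ x : H, ∀ i, ∀ u : PrimeSpectrum (C i), I.map (algebraMap H (C i)) ≤ u.asIdeal →
      ∃ c ∉ u.asIdeal, c * (algebraMap H (C i) x - b i) = 0 := by
  let X := Spec (CommRingCat.of H)
  let T := Spec (CommRingCat.of (H ⧸ I))
  let i₀ : T ⟶ X := Spec.map (CommRingCat.ofHom (Ideal.Quotient.mk I))
  haveI : IsClosedImmersion i₀ := IsClosedImmersion.spec_of_surjective _ Ideal.Quotient.mk_surjective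
  have hr : Set.range i₀ = Zof (𝟙 X) I := by
    refine (range_comap_of_surjective (H ⧸ I) _ Ideal.Quotient.mk_surjective).trans ?_
    rw [Ideal.mk_ker]
    rfl
  let F := GaSet X
  let G := (EtDesc.pullSh i₀).obj F
  let obj : ι → T.Etale := fun i => (EtCoh.bc i₀).obj (etObj H (C i))
  have hI : ∀ {V : X.Etale} (y : ((EtCoh.bc i₀).obj V).left),
      I ≤ PrimeSpectrum.asIdeal (V.hom (pr i₀ V y)) := fun {V} y => by
    rw [pullback_hom_point y]
    have hmem : i₀ (((EtCoh.bc i₀).obj V).hom y) ∈ Zof (𝟙 X) I := hr ▸ Set.mem_range_self _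
    exact hmem
  have hsieve : Sieve.generate (Presieve.ofArrows obj (fun i => toTop (obj i))) ∈
      T.smallEtaleTopology (EtCoh.top T) := by
    rw [Groth.Agent.EtFound.mem_topology_iff]
    intro z
    have hz : I ≤ PrimeSpectrum.asIdeal (i₀ (show T from z)) := by
      have hmem : i₀ (show T from z) ∈ Zof (𝟙 X) I := hr ▸ Set.mem_range_self _
      exact hmem
    obtain ⟨i, u, hu⟩ := hcov _ hz
    obtain ⟨w, -, hw⟩ := Scheme.Pullback.exists_preimage_pullback (f := (etObj H (C i)).hom)
      (g := i₀) u (show T from z) hu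
    exact ⟨obj i, toTop _, w, ⟨_, 𝟙 _, _, ⟨i⟩, Category.id_comp _⟩, (toTop_left_apply _ _).trans hw⟩
  obtain ⟨σ, hσ, -⟩ := (Presieve.isSheafFor_arrows_iff _ _).1 ((Presieve.isSheafFor_iff_generate _).2
    (((isSheaf_iff_isSheaf_of_type _ _).1 G.property) _ hsieve))
    (fun i => up i₀ F (etObj H (C i)) (sec H (b i)))
    fun i j Y p q _ => by
      haveI : Algebra.Etale H (C i ⊗[H] C j) := Algebra.Etale.comp H (C i) (C i ⊗[H] C j)
      let il : C i →ₐ[H] C i ⊗[H] C j := Algebra.TensorProduct.includeLeft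
      let ir : C j →ₐ[H] C i ⊗[H] C j := Algebra.TensorProduct.includeRight
      have hpb : IsPullback (etMap H il).left (etMap H ir).left (etObj H (C i)).hom (etObj H (C j)).hom :=
        isPullback_SpecMap_of_isPushout (CommRingCat.ofHom (algebraMap H (C i)))
          (CommRingCat.ofHom (algebraMap H (C j))) (CommRingCat.ofHom il.toRingHom)
          (CommRingCat.ofHom ir.toRingHom) (CommRingCat.isPushout_tensorProduct H (C i) (C j))
      have hp₀ : p.left ≫ (obj i).hom = Y.hom := MorphismProperty.Over.w p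
      have hq₀ : q.left ≫ (obj j).hom = Y.hom := MorphismProperty.Over.w q
      let l₀ : Y.left ⟶ (etObj H (C i ⊗[H] C j)).left :=
        hpb.lift (p.left ≫ pr i₀ (etObj H (C i))) (q.left ≫ pr i₀ (etObj H (C j))) (by
          have e₁ : (p.left ≫ pr i₀ (etObj H (C i))) ≫ (etObj H (C i)).hom = Y.hom ≫ i₀ :=
            (Category.assoc _ _ _).trans ((congrArg (p.left ≫ ·) pullback.condition).trans
              ((Category.assoc _ _ _).symm.trans (congrArg (· ≫ i₀) hp₀)))
          have e₂ : (q.left ≫ pr i₀ (etObj H (C j))) ≫ (etObj H (C j)).hom = Y.hom ≫ i₀ :=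
            (Category.assoc _ _ _).trans ((congrArg (q.left ≫ ·) pullback.condition).trans
              ((Category.assoc _ _ _).symm.trans (congrArg (· ≫ i₀) hq₀)))
          exact e₁.trans e₂.symm)
      have hl₀ : l₀ ≫ (etObj H (C i ⊗[H] C j)).hom = Y.hom ≫ i₀ := by
        rw [← MorphismProperty.Over.w (etMap H il), ← Category.assoc, IsPullback.lift_fst]
        exact (Category.assoc _ _ _).trans ((congrArg (p.left ≫ ·) pullback.condition).trans
          ((Category.assoc _ _ _).symm.trans (congrArg (· ≫ i₀) hp₀)))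
      let l : Y ⟶ (EtCoh.bc i₀).obj (etObj H (C i ⊗[H] C j)) :=
        MorphismProperty.Over.homMk (pullback.lift l₀ Y.hom hl₀) (pullback.lift_snd _ _ _)
      have hpl : l ≫ (EtCoh.bc i₀).map (etMap H il) = p := by
        refine MorphismProperty.Over.Hom.ext ?_
        refine pullback.hom_ext ?_ ?_
        · refine ((Category.assoc _ _ _).trans (congrArg (l.left ≫ ·)
            (EtCoh.isPullback_bc_map i₀ (etMap H il)).w)).trans ?_
          refine (Category.assoc _ _ _).symm.trans ?_
          rw [show l.left ≫ pr i₀ (etObj H (C i ⊗[H] C j)) = l₀ from pullback.lift_fst _ _ _]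
          exact IsPullback.lift_fst _ _ _ _
        · exact (MorphismProperty.Over.w (l ≫ (EtCoh.bc i₀).map (etMap H il))).trans hp₀.symm
      have hql : l ≫ (EtCoh.bc i₀).map (etMap H ir) = q := by
        refine MorphismProperty.Over.Hom.ext ?_
        refine pullback.hom_ext ?_ ?_
        · refine ((Category.assoc _ _ _).trans (congrArg (l.left ≫ ·)
            (EtCoh.isPullback_bc_map i₀ (etMap H ir)).w)).trans ?_
          refine (Category.assoc _ _ _).symm.trans ?_
          rw [show l.left ≫ pr i₀ (etObj H (C i ⊗[H] C j)) = l₀ from pullback.lift_fst _ _ _]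
          exact IsPullback.lift_snd _ _ _ _
        · exact (MorphismProperty.Over.w (l ≫ (EtCoh.bc i₀).map (etMap H ir))).trans hq₀.symm
      rw [← hpl, ← hql, ← mapF, ← mapF, ← up_map, ← up_map, map_sec, map_sec]
      refine eq_of_locEq G fun y => LocEq.map l (locEq_up i₀ F ?_)
      let w : PrimeSpectrum (C i ⊗[H] C j) := pr i₀ _ (l.left y)
      have hw := hI (l.left y)
      have hw' : I.map (algebraMap H (C i ⊗[H] C j)) ≤ w.asIdeal := Ideal.map_le_iff_le_comap.mpr hw
      obtain ⟨c, hc, hc0⟩ := hcompat i j w hw'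
      exact locEq_sec H _ _ w c hc hc0
  obtain ⟨g, hg⟩ := (bijective_secPull I (𝟙 X) i₀ hr F).2 σ
  obtain ⟨x, rfl⟩ := glob_surjective H g
  refine ⟨x, fun i u hu => exists_of_locEq H _ _ u ?_⟩
  have hz : (etObj H (C i)).hom (show (etObj H (C i)).left from u) ∈ Set.range i₀ := by
    rw [hr]
    exact Ideal.map_le_iff_le_comap.mp hu
  obtain ⟨z, hz⟩ := hz
  obtain ⟨y, hy, -⟩ := Scheme.Pullback.exists_preimage_pullback (f := (etObj H (C i)).hom) (g := i₀)
    (show (etObj H (C i)).left from u) z hz.symm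
  have h := map_toTop_secPull i₀ (etObj H (C i)) (glob H x) (F := F)
  rw [hg, map_glob] at h
  have hlo := locEq_of_up i₀ F (a := sec H (algebraMap H (C i) x)) (b := sec H (b i)) (z := y)
    (by rw [← h, show G.obj.map (toTop _).op σ = _ from hσ i]; exact LocEq.refl _ _)
  rwa [show pr i₀ (etObj H (C i)) y = u from hy] at hlo

end H1HensSheaf
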