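import Groth.Agent.H1HensSheaf.Glue
import Groth.Agent.S19568

/-!
The sheaf condition for Henselizations of localizations.
-/

set_option autoImplicit false
universe u

open scoped TensorProduct

namespace H1HensSheaf

theorem eq_zero_of_forall_maximal {R : Type u} [CommRing R] (d : R)
    (h : ∀ m : Ideal R, m.IsMaximal → ∃ c ∉ m, c * d = 0) : d = 0 := by
  by_contra hd
  have hne : (LinearMap.toSpanSingleton R R d).ker ≠ ⊤ := fun ht => hd (by
    have h1 : (1 : R) ∈ (LinearMap.toSpanSingleton R R d).ker := ht ▸ Submodule.mem_top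
    simpa [LinearMap.mem_ker] using h1)
  obtain ⟨m, hm, hle⟩ := Ideal.exists_le_maximal _ hne
  obtain ⟨c, hc, hcd⟩ := h m hm
  exact hc (hle (by simpa [LinearMap.mem_ker] using hcd))

theorem exists_rho {A : Type u} [CommRing A] (I : Ideal A) (A' : Type u) [CommRing A'] [Algebra A A']
    (C : Type u) [CommRing C] [Algebra A C] [Algebra A' C] [IsScalarTower A A' C]
    (hq : Function.Bijective (Ideal.quotientMap ((I.map (algebraMap A A')).map (algebraMap A' C))
      (algebraMap A' C) Ideal.le_comap_map)) :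
    ∃ ρ : C →ₐ[A] A' ⧸ I.map (algebraMap A A'),
      ∀ x : C, ∃ a : A', x - algebraMap A' C a ∈ I.map (algebraMap A C) := by
  let q := RingEquiv.ofBijective _ hq
  refine ⟨{ q.symm.toRingHom.comp (Ideal.Quotient.mk _) with commutes' := fun a => ?_ }, fun x => ?_⟩
  · show q.symm (Ideal.Quotient.mk _ (algebraMap A C a)) =
      algebraMap A (A' ⧸ I.map (algebraMap A A')) a
    rw [RingEquiv.symm_apply_eq, IsScalarTower.algebraMap_apply A A' C]
    rfl
  · obtain ⟨y, hy⟩ := hq.2 (Ideal.Quotient.mk _ x)
    obtain ⟨a, rfl⟩ := Ideal.Quotient.mk_surjective y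
    refine ⟨a, ?_⟩
    rw [Ideal.quotientMap_mk, eq_comm, Ideal.Quotient.eq] at hy
    rwa [Ideal.map_map, ← IsScalarTower.algebraMap_eq] at hy

variable {A : Type u} [CommRing A] (I : Ideal A)

theorem injective_of_cover {ι : Type u} (g : ι → A) (hcov : I ⊔ Ideal.span (Set.range g) = ⊤)
    (H : Type u) [CommRing H] [Algebra A H] (hH : Hens2.IsPairHenselization A I H)
    (Hi : ι → Type u) [∀ i, CommRing (Hi i)] [∀ i, Algebra (Localization.Away (g i)) (Hi i)]
    [∀ i, Algebra A (Hi i)] [∀ i, IsScalarTower A (Localization.Away (g i)) (Hi i)]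
    (hHi : ∀ i, Hens2.IsPairHenselization (Localization.Away (g i))
      (I.map (algebraMap A (Localization.Away (g i)))) (Hi i))
    (ρ : ∀ i, H →ₐ[A] Hi i) (d : H) (hd : ∀ i, ρ i d = 0) : d = 0 := by
  haveI := hH.1
  obtain ⟨A₁, _, _, _, hq, φ, s, rfl⟩ := (Groth.Agent.S19568.result A I H hH).2.1 d
  refine eq_zero_of_forall_maximal _ fun m hm => ?_
  have hIm : I.map (algebraMap A H) ≤ m := hH.1.jac.trans
    (fun x hx => Submodule.mem_sInf.mp hx m ⟨bot_le, hm⟩)
  obtain ⟨i, hi⟩ : ∃ i, algebraMap A H (g i) ∉ m := by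
    by_contra! h
    refine hm.ne_top (top_le_iff.mp (le_trans ?_ (sup_le hIm le_rfl)))
    rw [← Ideal.map_top (algebraMap A H), ← hcov, Ideal.map_sup, Ideal.map_span]
    refine sup_le_sup_left (Ideal.span_le.mpr ?_) _
    rintro _ ⟨_, ⟨j, rfl⟩, rfl⟩
    exact h j
  let q := RingEquiv.ofBijective _ hq
  let ρ₁ : A₁ →ₐ[A] Localization.Away (g i) ⧸ I.map (algebraMap A (Localization.Away (g i))) :=
    { (Ideal.quotientMap (I.map (algebraMap A (Localization.Away (g i))))
        (algebraMap A (Localization.Away (g i))) Ideal.le_comap_map).comp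
        (q.symm.toRingHom.comp (Ideal.Quotient.mk _)) with
      commutes' := fun a => by
        show Ideal.quotientMap (I.map (algebraMap A (Localization.Away (g i))))
          (algebraMap A (Localization.Away (g i))) Ideal.le_comap_map
          (q.symm (Ideal.Quotient.mk _ (algebraMap A A₁ a))) = _
        rw [show Ideal.Quotient.mk _ (algebraMap A A₁ a) = q (Ideal.Quotient.mk I a) from rfl,
          RingEquiv.symm_apply_apply, Ideal.quotientMap_mk]
        rfl }
  have hsurj : ∀ x : A₁, ∃ a : Localization.Away (g i),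
      (1 : Localization.Away (g i)) ⊗ₜ[A] x - a ⊗ₜ[A] (1 : A₁) ∈
        I.map (algebraMap A (Localization.Away (g i) ⊗[A] A₁)) := by
    intro x
    obtain ⟨y, hy⟩ := hq.2 (Ideal.Quotient.mk _ x)
    obtain ⟨a, rfl⟩ := Ideal.Quotient.mk_surjective y
    rw [Ideal.quotientMap_mk, eq_comm, Ideal.Quotient.eq] at hy
    refine ⟨algebraMap A _ a, ?_⟩
    have := Ideal.mem_map_of_mem
      (Algebra.TensorProduct.includeRight :
        A₁ →ₐ[A] Localization.Away (g i) ⊗[A] A₁).toRingHom hy
    rw [Ideal.map_map, AlgHom.toRingHom_eq_coe, AlgHom.comp_algebraMap] at this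
    convert this using 1
    simp only [AlgHom.toRingHom_eq_coe, RingHom.coe_coe, map_sub, AlgHom.commutes,
      Algebra.TensorProduct.includeRight_apply]
    rfl
  exact exists_notMem_mul_eq_zero_away A I (g i) (Localization.Away (g i)) (Hi i) (hHi i) A₁ ρ₁
    hsurj ((ρ i).comp φ) s (hd i) H φ.toRingHom m (by simpa using hi)
    (by rw [AlgHom.toRingHom_eq_coe, AlgHom.comp_algebraMap]; exact hIm)

/-- A finite-type datum at a member of the cover. -/
structure Datum (g : A) (B : Type u) [CommRing B] [Algebra A B] (b : B) where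
  C : Type u
  [commRing : CommRing C]
  [algebra : Algebra A C]
  [etale : Algebra.Etale A C]
  s : C
  φ : C →ₐ[A] B
  hφ : φ s = b
  ρ : C →ₐ[A] Localization.Away g ⧸ I.map (algebraMap A (Localization.Away g))
  θ : Localization.Away g →ₐ[A] C
  hsurj : ∀ x : C, ∃ a, x - θ a ∈ I.map (algebraMap A C)

attribute [instance] Datum.commRing Datum.algebra Datum.etale

theorem exists_datum (g : A) (B : Type u) [CommRing B] [Algebra (Localization.Away g) B] [Algebra A B]
    [IsScalarTower A (Localization.Away g) B]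
    (hB : Hens2.IsPairHenselization (Localization.Away g)
      (I.map (algebraMap A (Localization.Away g))) B) (b : B) : Nonempty (Datum I g B b) := by
  obtain ⟨C, _, _, _, hq, φ, s, hs⟩ := (Groth.Agent.S19568.result _ _ B hB).2.1 b
  letI : Algebra A C := ((algebraMap (Localization.Away g) C).comp (algebraMap A _)).toAlgebra
  haveI : IsScalarTower A (Localization.Away g) C := IsScalarTower.of_algebraMap_eq fun _ => rfl
  haveI : Algebra.Etale A (Localization.Away g) := Algebra.Etale.of_isLocalizationAway g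
  haveI : Algebra.Etale A C := Algebra.Etale.comp A (Localization.Away g) C
  obtain ⟨ρ, hρ⟩ := exists_rho I (Localization.Away g) C hq
  exact ⟨⟨C, s, φ.restrictScalars A, hs, ρ, IsScalarTower.toAlgHom A _ C, hρ⟩⟩

theorem exists_of_compatible {ι : Type u} (g : ι → A) (hcov : I ⊔ Ideal.span (Set.range g) = ⊤)
    (H : Type u) [CommRing H] [Algebra A H] (hH : Hens2.IsPairHenselization A I H)
    (Hi : ι → Type u) [∀ i, CommRing (Hi i)] [∀ i, Algebra (Localization.Away (g i)) (Hi i)]
    [∀ i, Algebra A (Hi i)] [∀ i, IsScalarTower A (Localization.Away (g i)) (Hi i)]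
    (hHi : ∀ i, Hens2.IsPairHenselization (Localization.Away (g i))
      (I.map (algebraMap A (Localization.Away (g i)))) (Hi i))
    (Hij : ι → ι → Type u) [∀ i j, CommRing (Hij i j)]
    [∀ i j, Algebra (Localization.Away (g i * g j)) (Hij i j)]
    [∀ i j, Algebra A (Hij i j)] [∀ i j, IsScalarTower A (Localization.Away (g i * g j)) (Hij i j)]
    (hHij : ∀ i j, Hens2.IsPairHenselization (Localization.Away (g i * g j))
      (I.map (algebraMap A (Localization.Away (g i * g j)))) (Hij i j))
    (ρ : ∀ i, H →ₐ[A] Hi i) (σ : ∀ i j, Hi i →ₐ[A] Hij i j) (τ : ∀ i j, Hi j →ₐ[A] Hij i j)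
    (s : ∀ i, Hi i) (hs : ∀ i j, σ i j (s i) = τ i j (s j)) : ∃ x : H, ∀ i, ρ i x = s i := by
  haveI := hH.1
  choose d hd using fun i => (⟨(exists_datum I (g i) (Hi i) (hHi i) (s i)).some, trivial⟩ :
    ∃ _ : Datum I (g i) (Hi i) (s i), True)
  have hunit : ∀ i {D : Type u} [CommRing D] [Algebra A D] (f : (d i).C →ₐ[A] D),
      IsUnit (algebraMap A D (g i)) := by
    intro i D _ _ f
    rw [← (f.comp (d i).θ).commutes]
    exact (IsLocalization.Away.algebraMap_isUnit (g i)).map _
  obtain ⟨x, hx⟩ := exists_glue H (I.map (algebraMap A H)) (fun i => H ⊗[A] (d i).C)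
    (fun i => (1 : H) ⊗ₜ[A] (d i).s) (fun z hz => by
      obtain ⟨i, hi⟩ : ∃ i, algebraMap A H (g i) ∉ z.asIdeal := by
        by_contra! h
        refine z.isPrime.ne_top (top_le_iff.mp (le_trans ?_ (sup_le hz le_rfl)))
        rw [← Ideal.map_top (algebraMap A H), ← hcov, Ideal.map_sup, Ideal.map_span]
        refine sup_le_sup_left (Ideal.span_le.mpr ?_) _
        rintro _ ⟨_, ⟨j, rfl⟩, rfl⟩
        exact h j
      let K := FractionRing (H ⧸ z.asIdeal)
      let π : H →ₐ[A] K := (IsScalarTower.toAlgHom A (H ⧸ z.asIdeal) K).comp (Ideal.Quotient.mkₐ A z.asIdeal)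
      have hπ : ∀ h : H, π h = 0 ↔ h ∈ z.asIdeal := fun h => by
        show algebraMap (H ⧸ z.asIdeal) K (Ideal.Quotient.mk _ h) = 0 ↔ _
        rw [map_eq_zero_iff _ (IsFractionRing.injective (H ⧸ z.asIdeal) K), Ideal.Quotient.eq_zero_iff_mem]
      have hu : IsUnit (algebraMap A K (g i)) := by
        rw [← π.commutes]
        exact Ne.isUnit fun h => hi ((hπ _).mp h)
      let l : Localization.Away (g i) →ₐ[A] K :=
        IsLocalization.Away.liftAlgHom (g i) (f := Algebra.ofId A K) hu
      let κ : (d i).C →ₐ[A] K := (Ideal.Quotient.liftₐ _ l (fun a ha => by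
        have : I.map (algebraMap A (Localization.Away (g i))) ≤ RingHom.ker l.toRingHom := by
          rw [Ideal.map_le_iff_le_comap]
          intro b hb
          show l (algebraMap A _ b) = 0
          rw [l.commutes, ← π.commutes, hπ]
          exact hz (Ideal.mem_map_of_mem _ hb)
        exact this ha)).comp (d i).ρ
      let Λ : H ⊗[A] (d i).C →ₐ[A] K := Algebra.TensorProduct.lift π κ fun _ _ => Commute.all _ _
      refine ⟨i, ⟨RingHom.ker Λ.toRingHom, RingHom.ker_isPrime _⟩, ?_⟩
      ext h
      show Λ (h ⊗ₜ[A] (1 : (d i).C)) = 0 ↔ h ∈ z.asIdeal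
      rw [Algebra.TensorProduct.lift_tmul, map_one, mul_one]
      exact hπ h)
    (fun i j w hw => by
      let D := (H ⊗[A] (d i).C) ⊗[H] (H ⊗[A] (d j).C)
      let el : (d i).C →ₐ[A] D :=
        ((Algebra.TensorProduct.includeLeft : H ⊗[A] (d i).C →ₐ[H] D).restrictScalars A).comp
          Algebra.TensorProduct.includeRight
      let er : (d j).C →ₐ[A] D :=
        ((Algebra.TensorProduct.includeRight : H ⊗[A] (d j).C →ₐ[H] D).restrictScalars A).comp
          Algebra.TensorProduct.includeRight
      let e : (d i).C ⊗[A] (d j).C →ₐ[A] D := Algebra.TensorProduct.lift el er fun _ _ => Commute.all _ _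
      have hu : IsUnit (algebraMap A (Localization.Away (g i * g j)) (g i * g j)) :=
        IsLocalization.Away.algebraMap_isUnit _
      rw [map_mul] at hu
      let li : Localization.Away (g i) →ₐ[A] Localization.Away (g i * g j) :=
        IsLocalization.Away.liftAlgHom (g i) (f := Algebra.ofId A _) (isUnit_of_mul_isUnit_left hu)
      let lj : Localization.Away (g j) →ₐ[A] Localization.Away (g i * g j) :=
        IsLocalization.Away.liftAlgHom (g j) (f := Algebra.ofId A _) (isUnit_of_mul_isUnit_right hu)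
      let J := I.map (algebraMap A (Localization.Away (g i * g j)))
      have hJ : ∀ {k : A} (l : Localization.Away k →ₐ[A] Localization.Away (g i * g j)),
          I.map (algebraMap A (Localization.Away k)) ≤ J.comap l := fun {k} l => by
        rw [Ideal.map_le_iff_le_comap]
        intro b hb
        show l (algebraMap A _ b) ∈ J
        rw [l.commutes]
        exact Ideal.mem_map_of_mem _ hb
      let ρij : (d i).C ⊗[A] (d j).C →ₐ[A] Localization.Away (g i * g j) ⧸ J :=
        Algebra.TensorProduct.lift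
          ((Ideal.quotientMapₐ J li (hJ li)).comp (d i).ρ)
          ((Ideal.quotientMapₐ J lj (hJ lj)).comp (d j).ρ) fun _ _ => Commute.all _ _
      let φij : (d i).C ⊗[A] (d j).C →ₐ[A] Hij i j :=
        Algebra.TensorProduct.lift ((σ i j).comp (d i).φ) ((τ i j).comp (d j).φ)
          fun _ _ => Commute.all _ _
      let T := Localization.Away (g i * g j) ⊗[A] ((d i).C ⊗[A] (d j).C)
      let inT : (d i).C ⊗[A] (d j).C →ₐ[A] T := Algebra.TensorProduct.includeRight
      let inA : Localization.Away (g i * g j) →ₐ[A] T := Algebra.TensorProduct.includeLeft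
      have hpiece : ∀ {k : A} {C : Type u} [CommRing C] [Algebra A C]
          (l : Localization.Away k →ₐ[A] Localization.Away (g i * g j))
          (θ : Localization.Away k →ₐ[A] C) (inc : C →ₐ[A] (d i).C ⊗[A] (d j).C) (x : C),
          (∃ a, x - θ a ∈ I.map (algebraMap A C)) →
            ∃ a, inT (inc x) - inA a ∈ I.map (algebraMap A T) := by
        intro k C _ _ l θ inc x ⟨a, ha⟩
        refine ⟨l a, ?_⟩
        have e0 : (inT.comp inc).comp θ = inA.comp l :=
          IsLocalization.algHom_ext (Submonoid.powers k) (Subsingleton.elim _ _)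
        rw [← show inT (inc (θ a)) = inA (l a) from AlgHom.congr_fun e0 a]
        have := Ideal.mem_map_of_mem (inT.comp inc).toRingHom ha
        rw [Ideal.map_map, AlgHom.toRingHom_eq_coe, AlgHom.comp_algebraMap] at this
        simpa using this
      have hsurjT : ∀ x, ∃ a, inT x - inA a ∈ I.map (algebraMap A T) := by
        intro x
        induction x using TensorProduct.induction_on with
        | zero => exact ⟨0, by simp⟩
        | tmul y z =>
          obtain ⟨a, ha⟩ := hpiece li (d i).θ Algebra.TensorProduct.includeLeft y ((d i).hsurj y)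
          obtain ⟨b, hb⟩ := hpiece lj (d j).θ Algebra.TensorProduct.includeRight z ((d j).hsurj z)
          refine ⟨a * b, ?_⟩
          have hyz : y ⊗ₜ[A] z = (Algebra.TensorProduct.includeLeft : (d i).C →ₐ[A] _) y *
              (Algebra.TensorProduct.includeRight : (d j).C →ₐ[A] _) z := by simp
          rw [hyz, map_mul, map_mul]
          exact (Ideal.Quotient.eq.mp (by
            rw [map_mul, map_mul, Ideal.Quotient.eq.mpr ha, Ideal.Quotient.eq.mpr hb]))
        | add y z hy hz =>
          obtain ⟨a, ha⟩ := hy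
          obtain ⟨b, hb⟩ := hz
          exact ⟨a + b, by rw [map_add, map_add, add_sub_add_comm]; exact add_mem ha hb⟩
      have hwu : ∀ a : A, IsUnit (algebraMap A D a) → algebraMap A D a ∉ w.asIdeal := fun a ha h =>
        w.isPrime.ne_top (Ideal.eq_top_of_isUnit_mem _ h ha)
      haveI : Algebra.Etale A ((d i).C ⊗[A] (d j).C) :=
        Algebra.Etale.comp A (d i).C ((d i).C ⊗[A] (d j).C)
      obtain ⟨c, hc, hc0⟩ := exists_notMem_mul_eq_zero_away A I (g i * g j)
        (Localization.Away (g i * g j)) (Hij i j) (hHij i j) ((d i).C ⊗[A] (d j).C) ρij hsurjT φij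
        ((d i).s ⊗ₜ[A] 1 - 1 ⊗ₜ[A] (d j).s) (by simp [φij, (d i).hφ, (d j).hφ, hs i j])
        D e.toRingHom w.asIdeal (by
          show e (algebraMap A _ (g i * g j)) ∉ w.asIdeal
          rw [e.commutes]
          refine hwu _ ?_
          rw [map_mul]
          exact (hunit i el).mul (hunit j er)) (by
          rw [AlgHom.toRingHom_eq_coe, AlgHom.comp_algebraMap, IsScalarTower.algebraMap_eq A H D, ← Ideal.map_map]
          exact hw)
      refine ⟨c, hc, ?_⟩
      convert hc0 using 2
      simp [e, el, er]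
      simp [← Algebra.TensorProduct.one_def])
  refine ⟨x, fun i => sub_eq_zero.mp (eq_zero_of_forall_maximal _ fun m hm => ?_)⟩
  let κ : H ⊗[A] (d i).C →ₐ[A] Hi i := Algebra.TensorProduct.lift (ρ i) (d i).φ fun _ _ => Commute.all _ _
  have hIm : I.map (algebraMap A (Hi i)) ≤ m := by
    rw [IsScalarTower.algebraMap_eq A (Localization.Away (g i)) (Hi i), ← Ideal.map_map]
    exact (hHi i).1.jac.trans (fun x hx => Submodule.mem_sInf.mp hx m ⟨bot_le, hm⟩)
  obtain ⟨c, hc, hc0⟩ := hx i ⟨m.comap κ.toRingHom, Ideal.IsPrime.comap _⟩ (by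
    rw [Ideal.map_map, ← IsScalarTower.algebraMap_eq, Ideal.map_le_iff_le_comap]
    intro a ha
    show κ (algebraMap A _ a) ∈ m
    rw [κ.commutes]
    exact hIm (Ideal.mem_map_of_mem _ ha))
  refine ⟨κ c, hc, ?_⟩
  have h1 : κ (algebraMap H (H ⊗[A] (d i).C) x) = ρ i x := by
    show κ (x ⊗ₜ[A] (1 : (d i).C)) = _
    simp [κ]
  have h2 : κ ((1 : H) ⊗ₜ[A] (d i).s) = s i := by simp [κ, (d i).hφ]
  have h3 := congrArg κ hc0
  rwa [map_mul, map_sub, map_zero, h1, h2] at h3

end H1HensSheaf
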